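import Groth.Agent.H02CA.EtaleCover
import Mathlib.RingTheory.Etale.QuasiFinite
import Mathlib.RingTheory.Spectrum.Prime.Chevalley
import Mathlib.RingTheory.Flat.FaithfullyFlat.Algebra

/-! A flat quasi-finite algebra of finite presentation is refined, near a point of its image, by a
finite faithfully flat algebra followed by a Zariski cover followed by another one. -/

set_option autoImplicit false
set_option linter.style.haveILetI false

universe u

open TensorProduct

namespace Groth.Agent.H8Props.FppfTower

theorem surjective_comap_away {A C : Type u} [CommRing A] [CommRing C] [Algebra A C] (h : A)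
    (hh : (PrimeSpectrum.basicOpen h : Set (PrimeSpectrum A)) ⊆
      Set.range (PrimeSpectrum.comap (algebraMap A C))) :
    Function.Surjective (PrimeSpectrum.comap
      (algebraMap (Localization.Away h) (Localization.Away h ⊗[A] C))) := by
  intro q
  have hq : q.comap (algebraMap A (Localization.Away h)) ∈ PrimeSpectrum.basicOpen h := by
    rw [PrimeSpectrum.mem_basicOpen]
    intro hm
    exact q.2.ne_top (q.asIdeal.eq_top_of_isUnit_mem hm (IsLocalization.Away.algebraMap_isUnit h))
  obtain ⟨Q, hQ⟩ := hh hq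
  let Ch := Localization.Away (algebraMap A C h)
  have hQh : algebraMap A C h ∉ Q.asIdeal := fun hm => hq (by
    rw [← hQ]; exact hm)
  have hdisj : Disjoint (Submonoid.powers (algebraMap A C h) : Set C) (Q.asIdeal : Set C) :=
    Set.disjoint_left.mpr fun _ ⟨n, hn⟩ hc => hQh (Q.2.mem_of_pow_mem n (by subst hn; exact hc))
  let Qh : PrimeSpectrum Ch := ⟨Q.asIdeal.map (algebraMap C Ch),
    IsLocalization.isPrime_of_isPrime_disjoint _ _ _ Q.2 hdisj⟩
  have hQh' : Qh.comap (algebraMap C Ch) = Q :=
    PrimeSpectrum.ext (IsLocalization.under_map_of_isPrime_disjoint _ _ Q.2 hdisj)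
  let φ : Localization.Away h ⊗[A] C →ₐ[A] Ch := Algebra.TensorProduct.lift
    (IsLocalization.liftAlgHom (M := Submonoid.powers h) (f := Algebra.ofId A Ch) (fun y => by
      obtain ⟨_, n, rfl⟩ := y
      change IsUnit (algebraMap A Ch (h ^ n))
      rw [map_pow, IsScalarTower.algebraMap_apply A C Ch]
      exact (IsLocalization.Away.algebraMap_isUnit (algebraMap A C h)).pow n))
    (IsScalarTower.toAlgHom A C Ch) (fun _ _ => Commute.all _ _)
  refine ⟨Qh.comap φ.toRingHom,
    PrimeSpectrum.localization_comap_injective (Localization.Away h) (Submonoid.powers h) ?_⟩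
  rw [← PrimeSpectrum.comap_comp_apply, ← PrimeSpectrum.comap_comp_apply, ← hQ, ← hQh',
    ← PrimeSpectrum.comap_comp_apply]
  refine congrArg (fun m : A →+* Ch => PrimeSpectrum.comap m Qh) (RingHom.ext fun a => ?_)
  show φ (algebraMap (Localization.Away h) _ (algebraMap A (Localization.Away h) a)) =
    algebraMap C Ch (algebraMap A C a)
  rw [← IsScalarTower.algebraMap_apply, AlgHom.commutes, ← IsScalarTower.algebraMap_apply]

variable {R B : Type u} [CommRing R] [CommRing B] [Algebra R B] [Algebra.FinitePresentation R B]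
  [Module.Flat R B] [Algebra.QuasiFinite R B]

/-- The tower over a basic open of the base. -/
theorem exists_tower (P : PrimeSpectrum B) :
    ∃ (f : R), f ∉ P.asIdeal.under R ∧
      ∃ (S' : Type u) (_ : CommRing S') (_ : Algebra (Localization.Away f) S') (_ : Algebra R S')
        (_ : IsScalarTower R (Localization.Away f) S'),
        Module.Finite (Localization.Away f) S' ∧
        Algebra.FinitePresentation (Localization.Away f) S' ∧
        Module.FaithfullyFlat (Localization.Away f) S' ∧
        ∀ q' : PrimeSpectrum S', ∃ (g' : S'), g' ∉ q'.asIdeal ∧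
          ∃ (T : Type u) (_ : CommRing T) (_ : Algebra (Localization.Away g') T) (_ : Algebra R T)
            (_ : IsScalarTower R (Localization.Away g') T),
            Module.Finite (Localization.Away g') T ∧
            Algebra.FinitePresentation (Localization.Away g') T ∧
            Module.FaithfullyFlat (Localization.Away g') T ∧ Nonempty (B →ₐ[R] T) := by
  classical
  let p := P.asIdeal.under R
  haveI : P.asIdeal.LiesOver p := ⟨rfl⟩
  haveI : Algebra.QuasiFiniteAt R P.asIdeal := inferInstance
  obtain ⟨R', _, _, _, 𝔭', _, _, e, -, P', _, hP'over, -, heP', -, hfin, -⟩ :=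
    Algebra.exists_etale_isIdempotentElem_forall_liesOver_eq p P.asIdeal
  let E := Localization.Away e
  haveI : Module.Finite R' E := hfin
  haveI : Module.Flat R' E := .trans R' (R' ⊗[R] B) E
  haveI : Algebra.FinitePresentation R' E := .trans R' (R' ⊗[R] B) E
  have hdisj : Disjoint (Submonoid.powers e : Set (R' ⊗[R] B)) (P' : Set _) :=
    Set.disjoint_left.mpr fun _ ⟨n, hn⟩ hc =>
      heP' (Ideal.IsPrime.mem_of_pow_mem ‹_› n (by subst hn; exact hc))
  let PE : PrimeSpectrum E := ⟨P'.map (algebraMap _ E),
    IsLocalization.isPrime_of_isPrime_disjoint _ _ _ ‹_› hdisj⟩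
  have hPE : PE.comap (algebraMap R' E) = ⟨𝔭', ‹_›⟩ := by
    rw [IsScalarTower.algebraMap_eq R' (R' ⊗[R] B) E, PrimeSpectrum.comap_comp_apply]
    refine PrimeSpectrum.ext ?_
    show ((P'.map (algebraMap _ E)).comap (algebraMap (R' ⊗[R] B) E)).comap _ = 𝔭'
    have h1 : (P'.map (algebraMap _ E)).comap (algebraMap (R' ⊗[R] B) E) = P' :=
      IsLocalization.under_map_of_isPrime_disjoint _ _ ‹_› hdisj
    rw [h1]
    exact hP'over.over.symm
  -- the open image of the finite part
  have hopE : IsOpenMap (PrimeSpectrum.comap (algebraMap R' E)) :=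
    PrimeSpectrum.isOpenMap_comap_of_hasGoingDown_of_finitePresentation
  obtain ⟨_, ⟨_, ⟨h, rfl⟩, rfl⟩, hh𝔭, hhD⟩ :=
    PrimeSpectrum.isBasis_basic_opens.exists_subset_of_mem_open
      (show (⟨𝔭', ‹_›⟩ : PrimeSpectrum R') ∈ Set.range (PrimeSpectrum.comap (algebraMap R' E)) from
        ⟨PE, hPE⟩) hopE.isOpen_range
  let R'' := Localization.Away h
  haveI : Algebra.Etale R R'' := .comp R R' R''
  -- the open image in the base
  have hop'' : IsOpenMap (PrimeSpectrum.comap (algebraMap R R'')) :=
    PrimeSpectrum.isOpenMap_comap_of_hasGoingDown_of_finitePresentation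
  have hp'' : (⟨p, inferInstance⟩ : PrimeSpectrum R) ∈
      Set.range (PrimeSpectrum.comap (algebraMap R R'')) := by
    obtain ⟨x, hx⟩ : (⟨𝔭', ‹_›⟩ : PrimeSpectrum R') ∈
        Set.range (PrimeSpectrum.comap (algebraMap R' R'')) := by
      rw [PrimeSpectrum.localization_away_comap_range R'' h]
      exact hh𝔭
    refine ⟨x, ?_⟩
    rw [IsScalarTower.algebraMap_eq R R' R'', PrimeSpectrum.comap_comp_apply, hx]
    exact PrimeSpectrum.ext (Ideal.LiesOver.over (P := 𝔭') (p := p)).symm
  obtain ⟨_, ⟨_, ⟨f, rfl⟩, rfl⟩, hfp, hfU⟩ :=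
    PrimeSpectrum.isBasis_basic_opens.exists_subset_of_mem_open hp'' hop''.isOpen_range
  let Rf := Localization.Away f
  let R₃ := Rf ⊗[R] R''
  obtain ⟨S', _, _, hS'fin, hS'fp, hS'ff, hdom⟩ :=
    Groth.Agent.H02CA.EtaleCover.exists_dominating (R := Rf) R₃ (surjective_comap_away f hfU)
  letI : Algebra R S' := ((algebraMap Rf S').comp (algebraMap R Rf)).toAlgebra
  haveI : IsScalarTower R Rf S' := IsScalarTower.of_algebraMap_eq fun _ => rfl
  refine ⟨f, hfp, S', inferInstance, inferInstance, inferInstance, inferInstance, hS'fin, hS'fp,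
    hS'ff, fun q' => ?_⟩
  obtain ⟨g', hg', ⟨σ⟩⟩ := hdom q'.asIdeal
  refine ⟨g', hg', ?_⟩
  -- the finite part over `R''`
  let Eh := R'' ⊗[R'] E
  haveI : Module.FaithfullyFlat R'' Eh :=
    Module.FaithfullyFlat.of_comap_surjective (surjective_comap_away h hhD)
  let χ : R'' →+* Localization.Away g' :=
    σ.toRingHom.comp (Algebra.TensorProduct.includeRight : R'' →ₐ[R] R₃).toRingHom
  letI : Algebra R'' (Localization.Away g') := χ.toAlgebra
  haveI : IsScalarTower R R'' (Localization.Away g') := IsScalarTower.of_algebraMap_eq fun r => by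
    show algebraMap R (Localization.Away g') r = σ (Algebra.TensorProduct.includeRight (algebraMap R R'' r))
    rw [AlgHom.commutes, IsScalarTower.algebraMap_apply R Rf R₃, AlgHom.commutes,
      ← IsScalarTower.algebraMap_apply]
  let T := Localization.Away g' ⊗[R''] Eh
  let ι₀ : B →+* Eh := ((Algebra.TensorProduct.includeRight : E →ₐ[R'] Eh).toRingHom.comp
    (algebraMap (R' ⊗[R] B) E)).comp
      (Algebra.TensorProduct.includeRight : B →ₐ[R] R' ⊗[R] B).toRingHom
  let ι : B →+* T := (Algebra.TensorProduct.includeRight : Eh →ₐ[R''] T).toRingHom.comp ι₀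
  refine ⟨T, inferInstance, inferInstance, inferInstance, inferInstance, inferInstance,
    inferInstance, inferInstance, ⟨{ ι with commutes' := fun r => ?_ }⟩⟩
  show (Algebra.TensorProduct.includeRight : Eh →ₐ[R''] T) (ι₀ (algebraMap R B r)) = _
  have h1 : ι₀ (algebraMap R B r) = algebraMap R'' Eh (algebraMap R R'' r) := by
    show (Algebra.TensorProduct.includeRight : E →ₐ[R'] Eh) (algebraMap (R' ⊗[R] B) E
      ((Algebra.TensorProduct.includeRight : B →ₐ[R] R' ⊗[R] B) (algebraMap R B r))) = _
    rw [AlgHom.commutes, IsScalarTower.algebraMap_apply R R' (R' ⊗[R] B),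
      ← IsScalarTower.algebraMap_apply R' (R' ⊗[R] B) E, AlgHom.commutes,
      IsScalarTower.algebraMap_apply R R' R'', ← IsScalarTower.algebraMap_apply R' R'' Eh]
  rw [h1, AlgHom.commutes, IsScalarTower.algebraMap_apply R'' (Localization.Away g') T,
    ← IsScalarTower.algebraMap_apply R R'' (Localization.Away g'),
    ← IsScalarTower.algebraMap_apply R (Localization.Away g') T]

end Groth.Agent.H8Props.FppfTower
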