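import Groth.Prelude.Def_Mor2
import Groth.Agent.H8Props.FppfTower.Ring
import Groth.Agent.H8Props.FlatQFSlice

/-! Scheme version of the tower refinement. -/

set_option autoImplicit false
set_option linter.style.haveILetI false
set_option backward.isDefEq.respectTransparency false

universe u

open CategoryTheory CategoryTheory.Limits AlgebraicGeometry

namespace Groth.Agent.H8Props.FppfTower

/-- A finite faithfully flat algebra of finite presentation gives a finite locally free surjection. -/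
theorem isFinLocFree_SpecMap {A B : Type u} [CommRing A] [CommRing B] [Algebra A B]
    [Module.Finite A B] [Algebra.FinitePresentation A B] [Module.FaithfullyFlat A B] :
    Mor2.IsFinLocFree (Spec.map (CommRingCat.ofHom (algebraMap A B))) ∧
      Surjective (Spec.map (CommRingCat.ofHom (algebraMap A B))) :=
  ⟨⟨(IsFinite.SpecMap_iff _).mpr (RingHom.finite_algebraMap.mpr ‹_›),
    (HasRingHomProperty.Spec_iff (P := @Flat)).mpr (RingHom.flat_algebraMap_iff.mpr inferInstance),
    (HasRingHomProperty.Spec_iff (P := @LocallyOfFinitePresentation)).mpr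
      (RingHom.finitePresentation_algebraMap.mpr ‹_›)⟩,
    ⟨PrimeSpectrum.comap_surjective_of_faithfullyFlat (A := A) (B := B)⟩⟩

theorem isFinLocFree_comp_iso {X Y Z : Scheme.{u}} {f : X ⟶ Y} (hf : Mor2.IsFinLocFree f)
    (hs : Surjective f) (e : Y ⟶ Z) [IsIso e] : Mor2.IsFinLocFree (f ≫ e) ∧ Surjective (f ≫ e) := by
  obtain ⟨_, _, _⟩ := hf
  exact ⟨⟨inferInstance, inferInstance, inferInstance⟩, inferInstance⟩

/-- An open subscheme isomorphic to the spectrum of a localisation. -/
theorem exists_basicOpen_iso {R : Type u} [CommRing R] {X : Scheme.{u}} (j : Spec (CommRingCat.of R) ⟶ X)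
    [IsOpenImmersion j] (f : R) (L : Type u) [CommRing L] [Algebra R L] [IsLocalization.Away f L] :
    ∃ (V : X.Opens) (e : Spec (CommRingCat.of L) ⟶ V.toScheme), IsIso e ∧
      (∀ p : PrimeSpectrum R, f ∉ p.asIdeal → j p ∈ V) ∧
      e ≫ V.ι = Spec.map (CommRingCat.ofHom (algebraMap R L)) ≫ j := by
  let k := Spec.map (CommRingCat.ofHom (algebraMap R L))
  haveI : IsOpenImmersion k := IsOpenImmersion.of_isLocalization f
  refine ⟨(k ≫ j).opensRange, (k ≫ j).isoOpensRange.hom, inferInstance, fun p hp => ?_,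
    Scheme.Hom.isoOpensRange_hom_ι _⟩
  obtain ⟨q, hq⟩ : p ∈ Set.range (PrimeSpectrum.comap (algebraMap R L)) := by
    rw [PrimeSpectrum.localization_away_comap_range L f]
    exact hp
  exact ⟨q, congrArg (fun x => j x) hq⟩

theorem exists_tower_scheme {T X : Scheme.{u}} (f : X ⟶ T) [Flat f] [LocallyOfFinitePresentation f]
    (x : X) :
    ∃ (U : T.Opens) (W : Scheme.{u}) (π : W ⟶ U.toScheme), f x ∈ U ∧ Mor2.IsFinLocFree π ∧
      Surjective π ∧ ∀ w : W, ∃ (W' : W.Opens) (T' : Scheme.{u}) (ρ : T' ⟶ W'.toScheme) (r : T' ⟶ X),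
        w ∈ W' ∧ Mor2.IsFinLocFree ρ ∧ Surjective ρ ∧ r ≫ f = ρ ≫ W'.ι ≫ π ≫ U.ι := by
  obtain ⟨V, hV, hxV, -⟩ := exists_isAffineOpen_mem_and_subset (x := f x) (U := (⊤ : T.Opens))
    (TopologicalSpace.Opens.mem_top _)
  obtain ⟨D, hD, hxD, hDV⟩ := exists_isAffineOpen_mem_and_subset (x := x) (U := f ⁻¹ᵁ V) hxV
  let A := Γ(T, V)
  let B := Γ(X, D)
  letI : Algebra A B := (f.appLE V D hDV).hom.toAlgebra
  haveI : Module.Flat A B := f.flat_appLE hV hD hDV
  haveI : Algebra.FinitePresentation A B := f.finitePresentation_appLE hV hD hDV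
  let q₀ := hD.primeIdealOf ⟨x, hxD⟩
  have hfac : Spec.map (CommRingCat.ofHom (algebraMap A B)) ≫ hV.fromSpec = hD.fromSpec ≫ f :=
    IsAffineOpen.SpecMap_appLE_fromSpec f hV hD hDV
  have hq₀ : hV.fromSpec (q₀.comap (algebraMap A B)) = f x := by
    have h := congrArg (fun m : _ ⟶ T => m q₀) hfac
    simp only [Scheme.Hom.comp_apply] at h
    exact h.trans (congrArg (fun y => f y) (hD.fromSpec_primeIdealOf ⟨x, hxD⟩))
  obtain ⟨W₀, h₀, hW₀, h1, h2, h3, w₀, hw₀⟩ :=
    Groth.Agent.H8Props.QFSlice.exists_flat_slice (A := A) (B := B) q₀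
  haveI := hW₀
  let σ := W₀.isoSpec.inv ≫ h₀ ≫ Spec.map (CommRingCat.ofHom (algebraMap A B))
  haveI := h1
  haveI := h2
  haveI := h3
  haveI : Flat σ := inferInstance
  haveI : LocallyOfFinitePresentation σ := inferInstance
  haveI : LocallyQuasiFinite σ := inferInstance
  let B' := Γ(W₀, ⊤)
  letI : Algebra A B' := (Spec.preimage σ).hom.toAlgebra
  have hσ : Spec.map (CommRingCat.ofHom (algebraMap A B')) = σ := Spec.map_preimage σ
  haveI : Module.Flat A B' := RingHom.flat_algebraMap_iff.mp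
    ((HasRingHomProperty.Spec_iff (P := @Flat) (φ := CommRingCat.ofHom (algebraMap A B'))).mp
      (by rw [hσ]; infer_instance))
  haveI : Algebra.FinitePresentation A B' := RingHom.finitePresentation_algebraMap.mp
    ((HasRingHomProperty.Spec_iff (P := @LocallyOfFinitePresentation)
      (φ := CommRingCat.ofHom (algebraMap A B'))).mp (by rw [hσ]; infer_instance))
  haveI : Algebra.QuasiFinite A B' := RingHom.quasiFinite_algebraMap.mp
    ((HasRingHomProperty.Spec_iff (P := @LocallyQuasiFinite)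
      (φ := CommRingCat.ofHom (algebraMap A B'))).mp (by rw [hσ]; infer_instance))
  let P : PrimeSpectrum B' := W₀.isoSpec.hom w₀
  have hP : P.comap (algebraMap A B') = q₀.comap (algebraMap A B) := by
    have e : (W₀.isoSpec.hom ≫ σ) w₀ = q₀.comap (algebraMap A B) := by
      rw [Iso.hom_inv_id_assoc]
      exact hw₀
    rw [← e, Scheme.Hom.comp_apply, ← hσ]
    rfl
  obtain ⟨a, ha, S', _, _, _, _, _, _, _, hloc⟩ := exists_tower (R := A) (B := B') P
  obtain ⟨U, eU, _, hU, heU⟩ := exists_basicOpen_iso hV.fromSpec a (Localization.Away a)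
  obtain ⟨hπ, hπs⟩ := isFinLocFree_SpecMap (A := Localization.Away a) (B := S')
  obtain ⟨hπ', hπs'⟩ := isFinLocFree_comp_iso hπ hπs eU
  refine ⟨U, _, _, ?_, hπ', hπs', fun w => ?_⟩
  · rw [← hq₀]
    refine hU _ fun hm => ha ?_
    rw [← hP] at hm
    exact hm
  obtain ⟨g', hg', T', _, _, _, _, _, _, _, ⟨ψ⟩⟩ := hloc w
  obtain ⟨W', eW, _, hW', heW⟩ := exists_basicOpen_iso (X := Spec (CommRingCat.of S')) (𝟙 _) g'
    (Localization.Away g')
  obtain ⟨hρ, hρs⟩ := isFinLocFree_SpecMap (A := Localization.Away g') (B := T')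
  obtain ⟨hρ', hρs'⟩ := isFinLocFree_comp_iso hρ hρs eW
  refine ⟨W', _, _, Spec.map (CommRingCat.ofHom ψ.toRingHom) ≫ W₀.isoSpec.inv ≫ h₀ ≫ hD.fromSpec,
    hW' w hg', hρ', hρs', ?_⟩
  simp only [Category.assoc]
  rw [reassoc_of% heW, heU, ← hfac]
  rw [show W₀.isoSpec.inv ≫ h₀ ≫ Spec.map (CommRingCat.ofHom (algebraMap A B)) ≫ hV.fromSpec =
      σ ≫ hV.fromSpec from by simp [σ], ← hσ]
  simp only [← Category.assoc, ← Spec.map_comp]
  congr 2
  ext1
  refine RingHom.ext fun r => ?_
  show ψ (algebraMap A B' r) = algebraMap (Localization.Away g') T' (algebraMap S' (Localization.Away g')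
    (algebraMap (Localization.Away a) S' (algebraMap A (Localization.Away a) r)))
  rw [AlgHom.commutes, ← IsScalarTower.algebraMap_apply A (Localization.Away a) S',
    ← IsScalarTower.algebraMap_apply A S' (Localization.Away g'),
    ← IsScalarTower.algebraMap_apply A (Localization.Away g') T']

end Groth.Agent.H8Props.FppfTower
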